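import Cfsg.Agent.Lib.ThreeTrans.O73.Group
import Mathlib.Algebra.CharP.Lemmas

set_option autoImplicit false
set_option maxRecDepth 4000

/-!
The seven classes of subgroups of order 3 of Ω(7, 3) are distinct (owner: helper28).
-/

namespace CfsgLib.ThreeTrans.O73

open CfsgLib.Classical CfsgLib.Classical.Quad
open scoped Matrix

/-- The matrices of the representatives. -/
def repMat : Fin 7 → Matrix (Fin 7) (Fin 7) (ZMod 3) := ![!![1,0,0,0,0,1,0;0,1,0,0,0,0,2;0,0,1,0,0,0,0;0,0,0,1,0,0,0;0,0,0,0,1,0,0;0,0,0,0,0,1,0;0,0,0,0,0,0,1], !![1,0,0,2,0,0,2;0,1,0,0,0,0,0;0,0,1,0,0,0,0;0,0,0,1,0,0,2;0,0,0,0,1,0,0;0,0,0,0,0,1,0;0,0,0,0,0,0,1], !![1,0,0,2,0,0,2;0,1,0,0,1,0,0;0,0,1,0,0,2,0;0,0,0,1,0,0,2;0,0,0,0,1,0,0;0,0,0,0,0,1,0;0,0,0,0,0,0,1], !![1,0,0,2,0,0,2;0,1,0,0,2,0,0;0,0,1,0,0,1,0;0,0,0,1,0,0,2;0,0,0,0,1,0,0;0,0,0,0,0,1,0;0,0,0,0,0,0,1], !![1,0,1,0,2,0,1;0,1,0,0,0,0,0;0,0,1,0,0,0,1;0,0,0,1,0,0,0;0,0,0,0,1,0,2;0,0,0,0,0,1,0;0,0,0,0,0,0,1], !![1,0,1,0,0,2,0;0,1,0,0,1,0,0;0,0,1,0,0,2,0;0,0,0,1,0,0,0;0,0,0,0,1,0,2;0,0,0,0,0,1,0;0,0,0,0,0,0,1],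 !![1,0,1,0,1,0,2;0,1,0,2,0,2,0;0,0,1,0,0,0,2;0,0,0,1,0,2,0;0,0,0,0,1,0,2;0,0,0,0,0,1,0;0,0,0,0,0,0,1]]

theorem repMat_eq : ∀ i : Fin 7, dec (ev (repData.getD i [])) = repMat i := by decide +kernel

theorem mat_rep (i : Fin 7) : mat (rep i) = repMat i := by rw [rep, mat_wd, repMat_eq]

theorem rep_ne_one (i : Fin 7) : rep i ≠ 1 := fun e => by
  have h : ∀ i : Fin 7, repMat i ≠ 1 := by decide +kernel
  exact h i (by rw [← mat_rep, e, mat_one])

theorem rep_cube (i : Fin 7) : rep i * (rep i * rep i) = 1 := mat_inj (by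
  have h : ∀ i : Fin 7, repMat i * (repMat i * repMat i) = 1 := by decide +kernel
  rw [mat_mul, mat_mul, mat_rep, mat_one]
  exact h i)

/-- The form in the ordered basis. -/
def qs (v : Fin 7 → ZMod 3) : ZMod 3 := v 3 * v 3 + v 0 * v 6 + v 1 * v 5 + v 2 * v 4

theorem qs_eq (v : Idx → ZMod 3) : qs (v ∘ pos.symm) = qf v := by
  revert v
  decide +kernel

theorem qs_mat (g : O) (v : Fin 7 → ZMod 3) : qs (mat g *ᵥ v) = qs v := by
  have e : mat g *ᵥ v = (((g : GL Idx (ZMod 3)) : Matrix Idx Idx (ZMod 3)) *ᵥ (v ∘ pos)) ∘ pos.symm := by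
    rw [mat, Matrix.submatrix_mulVec_equiv]
    rfl
  have h := g.2 (v ∘ pos) (v ∘ pos)
  rw [e, qs_eq]
  refine h.trans ?_
  show qf (v ∘ pos) = qs v
  rw [← qs_eq]
  simp [Function.comp_def]

/-- The number of fixed vectors of given norm. -/
noncomputable def fixCount (g : O) (c : ZMod 3) : ℕ :=
  Nat.card {v : Fin 7 → ZMod 3 // mat g *ᵥ v = v ∧ qs v = c}

theorem fixCount_conj (h g : O) (c : ZMod 3) : fixCount (h * g * h⁻¹) c = fixCount g c := by
  have inv : ∀ (y : O) (v : Fin 7 → ZMod 3), mat y⁻¹ *ᵥ (mat y *ᵥ v) = v := fun y v => by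
    rw [Matrix.mulVec_mulVec, ← mat_mul, inv_mul_cancel, mat_one, Matrix.one_mulVec]
  refine Nat.card_congr
    { toFun := fun v => ⟨mat h⁻¹ *ᵥ v.1, ?_, by rw [qs_mat]; exact v.2.2⟩
      invFun := fun v => ⟨mat h *ᵥ v.1, ?_, by rw [qs_mat]; exact v.2.2⟩
      left_inv := fun v => Subtype.ext (by simpa using inv h⁻¹ v.1)
      right_inv := fun v => Subtype.ext (inv h v.1) }
  · conv_rhs => rw [← v.2.1]
    rw [Matrix.mulVec_mulVec, Matrix.mulVec_mulVec, ← mat_mul, ← mat_mul]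
    congr 2; group
  · conv_rhs => rw [← v.2.1]
    rw [Matrix.mulVec_mulVec, Matrix.mulVec_mulVec, ← mat_mul, ← mat_mul]
    congr 2; group

theorem fixCount_sq {g : O} (h : g * (g * g) = 1) (c : ZMod 3) : fixCount (g * g) c = fixCount g c := by
  refine Nat.card_congr (Equiv.subtypeEquivRight fun v => and_congr_left fun _ => ⟨fun hv => ?_, fun hv => ?_⟩)
  · have e : g = (g * g) * (g * g) := by
      calc g = g * (g * (g * g)) := by rw [h, mul_one]
        _ = _ := by simp only [mul_assoc]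
    rw [e, mat_mul, ← Matrix.mulVec_mulVec, hv, hv]
  · rw [mat_mul, ← Matrix.mulVec_mulVec, hv, hv]

/-- The computed count. -/
def count (M : Matrix (Fin 7) (Fin 7) (ZMod 3)) (c : ZMod 3) : ℕ :=
  ((Finset.univ : Finset (Fin 7 → ZMod 3)).filter fun v => (∀ i, (M *ᵥ v) i = v i) ∧ qs v = c).card

theorem fixCount_eq (i : Fin 7) (c : ZMod 3) : fixCount (rep i) c = count (repMat i) c := by
  rw [fixCount, Nat.card_eq_fintype_card, count, mat_rep]
  refine Fintype.card_of_subtype _ fun v => ?_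
  simp [funext_iff]

theorem count_val_zero : ∀ i : Fin 7, count (repMat i) 0 = ![81, 99, 27, 27, 63, 9, 9] i := by decide +kernel

theorem count_val_one : ∀ i : Fin 7, count (repMat i) 1 = ![108, 72, 0, 0, 90, 18, 0] i := by decide +kernel

theorem sep_invariants : ∀ i j : Fin 7, ![81, 99, 27, 27, 63, 9, 9] i = ![81, 99, 27, 27, 63, 9, 9] j →
    ![108, 72, 0, 0, 90, 18, 0] i = (![108, 72, 0, 0, 90, 18, 0] : Fin 7 → ℕ) j →
      i = j ∨ (i = 2 ∧ j = 3) ∨ (i = 3 ∧ j = 2) := by decide +kernel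

theorem same_invariants {i j : Fin 7} {g : O}
    (h : g * rep i * g⁻¹ = rep j ∨ g * rep i * g⁻¹ = rep j * rep j) :
    i = j ∨ (i = 2 ∧ j = 3) ∨ (i = 3 ∧ j = 2) := by
  have e : ∀ c, count (repMat i) c = count (repMat j) c := fun c => by
    rw [← fixCount_eq, ← fixCount_eq, ← fixCount_conj g (rep i)]
    rcases h with h | h <;> rw [h]
    exact fixCount_sq (rep_cube j) c
  have e0 := e 0
  have e1 := e 1
  rw [count_val_zero, count_val_zero] at e0
  rw [count_val_one, count_val_one] at e1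
  exact sep_invariants i j e0 e1

theorem det_mat (g : O) : (mat g).det = ((g : GL Idx (ZMod 3)) : Matrix Idx Idx (ZMod 3)).det :=
  Matrix.det_submatrix_equiv_self _ _

theorem det_mat_Om {g : O} (hg : g ∈ Om) : (mat g).det = 1 := by rw [det_mat, det_eq_one hg]

/-- Encoded minus identity. -/
def negEye : List Row := [(0, 1), (0, 2), (0, 4), (0, 8), (0, 16), (0, 32), (0, 64)]

/-- Encoded diagonal element interchanging the two split classes. -/
def tData : List Row := [(1, 0), (0, 2), (4, 0), (8, 0), (16, 0), (0, 32), (64, 0)]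

/-- Minus the identity. -/
def nI : O := mk negEye negEye (by decide +kernel) (by decide +kernel) (by decide +kernel)

/-- The diagonal element. -/
def tEl : O := mk tData tData (by decide +kernel) (by decide +kernel) (by decide +kernel)

theorem mat_mk (A B : List Row) (h1 : dec A * dec B = 1) (h2 : dec B * dec A = 1)
    (h3 : (dec A)ᵀ * gram * dec A = gram) : mat (mk A B h1 h2 h3) = dec A := by
  show ((dec A).submatrix pos pos).submatrix pos.symm pos.symm = _
  simp [Matrix.submatrix_submatrix]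

theorem mat_nI : mat nI = -1 := by
  rw [nI, mat_mk]; decide +kernel

theorem mat_t : mat tEl = dec tData := by rw [tEl, mat_mk]

theorem det_t : (mat tEl).det = 1 := by
  have h : dec tData = Matrix.diagonal ![1, 2, 1, 1, 1, 2, 1] := by decide +kernel
  rw [mat_t, h, Matrix.det_diagonal]
  decide +kernel

theorem gram_mat (g : O) : (mat g)ᵀ * gram * mat g = gram := by
  have q : ∀ v, qs v = v ⬝ᵥ (gram *ᵥ v) := by
    intro v
    have := qf_eq (v ∘ pos)
    rw [← qs_eq] at this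
    simpa [Function.comp_def] using this
  have gs : gramᵀ = gram := by decide +kernel
  have key : ∀ A : Matrix (Fin 7) (Fin 7) (ZMod 3), Aᵀ = A → (∀ v, v ⬝ᵥ (A *ᵥ v) = 0) → A = 0 := by
    intro A hA hv
    have hd : ∀ i, A i i = 0 := fun i => by simpa using hv (Pi.single i 1)
    ext i j
    have h := hv (Pi.single i 1 + Pi.single j 1)
    have hs : A j i = A i j := congrFun (congrFun hA i) j
    simp [Matrix.mulVec_add, dotProduct_add, hd, hs] at h
    have h2 : ∀ a : ZMod 3, a + a = 0 → a = 0 := by decide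
    exact h2 _ h
  refine sub_eq_zero.1 (key _ ?_ fun v => ?_)
  · rw [Matrix.transpose_sub, Matrix.transpose_mul, Matrix.transpose_mul, Matrix.transpose_transpose, gs,
      Matrix.mul_assoc]
  · rw [Matrix.sub_mulVec, dotProduct_sub, ← q v]
    have := qs_mat g v
    rw [q (mat g *ᵥ v), Matrix.mulVec_mulVec, Matrix.dotProduct_mulVec, ← Matrix.vecMul_transpose,
      Matrix.vecMul_vecMul, ← Matrix.mul_assoc, ← Matrix.dotProduct_mulVec] at this
    rw [this, sub_self]

theorem pow_nine_of_unitriangular {M : Matrix (Fin 7) (Fin 7) (ZMod 3)} (hd : ∀ i, M i i = 1)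
    (hl : ∀ i j, j < i → M i j = 0) : M ^ 9 = 1 := by
  have : Fact (Nat.Prime 3) := ⟨Nat.prime_three⟩
  set N := M - 1 with hN
  have hpow : ∀ k : ℕ, ∀ i j : Fin 7, (j : ℕ) < i + k → (N ^ k) i j = 0 := by
    intro k
    induction k with
    | zero =>
      intro i j h
      rw [pow_zero, Matrix.one_apply_ne]
      intro e; subst e; omega
    | succ k ih =>
      intro i j h
      rw [pow_succ, Matrix.mul_apply]
      refine Finset.sum_eq_zero fun l _ => ?_
      by_cases hl' : (l : ℕ) < i + k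
      · rw [ih i l hl', zero_mul]
      · rcases lt_or_eq_of_le (show (j : ℕ) ≤ l by omega) with hjl | hjl
        · rw [hN, Matrix.sub_apply, Matrix.one_apply_ne (by intro e; subst e; omega),
            hl l j (by exact hjl), sub_zero, mul_zero]
        · rw [hN, Matrix.sub_apply, show j = l from Fin.ext hjl, hd, Matrix.one_apply_eq, sub_self, mul_zero]
  have hN7 : N ^ 7 = 0 := Matrix.ext fun i j => hpow 7 i j (by omega)
  have h9 : M ^ 3 ^ 2 = N ^ 3 ^ 2 + 1 ^ 3 ^ 2 := by
    rw [show M = N + 1 by rw [hN]; abel]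
    exact add_pow_char_pow_of_commute (p := 3) (n := 2) (Commute.one_right N)
  rw [show (9 : ℕ) = 3 ^ 2 by norm_num, h9, one_pow, show (3 : ℕ) ^ 2 = 7 + 2 by norm_num, pow_add, hN7,
    zero_mul, zero_add]

theorem mem_Om_of_unitriangular {g : O} (hd : ∀ i, mat g i i = 1) (hl : ∀ i j, j < i → mat g i j = 0) :
    g ∈ Om := by
  have h9 : g ^ 9 = 1 := by
    apply mat_inj
    have : ∀ k : ℕ, mat (g ^ k) = mat g ^ k := fun k => by
      induction k with
      | zero => rw [pow_zero, pow_zero, mat_one]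
      | succ k ih => rw [pow_succ, pow_succ, mat_mul, ih]
    rw [this, mat_one, pow_nine_of_unitriangular hd hl]
  have e : g = (g * g) ^ 5 := by rw [← pow_two, ← pow_mul, show 2 * 5 = 9 + 1 by norm_num, pow_succ, h9, one_mul]
  rw [e]
  exact pow_mem (sq_mem_Om g) 5

/-- The blocks of the parabolic subgroup. -/
def blk : Fin 7 → ℕ := ![0, 1, 1, 2, 3, 3, 4]

/-- The Levi part. -/
def levi (a b c d : ZMod 3) : Matrix (Fin 7) (Fin 7) (ZMod 3) :=
  !![1,0,0,0,0,0,0;0,a,b,0,0,0,0;0,c,d,0,0,0,0;0,0,0,1,0,0,0;0,0,0,0,a,2*b,0;0,0,0,0,2*c,d,0;0,0,0,0,0,0,1]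

theorem levi_inv_check : ∀ a b c d : ZMod 3, a * d - b * c = 1 →
    (slData.any fun p => (List.finRange 7).all fun i => (List.finRange 7).all fun j =>
      (blk i == blk j || dec (ev p.2) i j == 0) &&
        ((dec (ev p.2) * levi a b c d) i j == (1 : Matrix (Fin 7) (Fin 7) (ZMod 3)) i j)) = true := by
  decide +kernel

theorem levi_inv (a b c d : ZMod 3) (h : a * d - b * c = 1) : ∃ p ∈ slData,
    (∀ i j, blk i ≠ blk j → dec (ev p.2) i j = 0) ∧ dec (ev p.2) * levi a b c d = 1 := by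
  have := levi_inv_check a b c d h
  simp only [List.any_eq_true, List.all_eq_true, List.mem_finRange, forall_const, Bool.and_eq_true,
    Bool.or_eq_true, beq_iff_eq] at this
  obtain ⟨p, hp, h'⟩ := this
  exact ⟨p, hp, fun i j hne => ((h' i j).1).resolve_left hne, Matrix.ext fun i j => (h' i j).2⟩

theorem centralizer_rep_two {c : O} (h : c * rep 2 = rep 2 * c) : c ∈ Om ∨ nI * c ∈ Om := by
  obtain ⟨C, hC⟩ : ∃ C, C = mat c := ⟨_, rfl⟩
  have hcomm : C * repMat 2 = repMat 2 * C := by rw [hC, ← mat_rep 2, ← mat_mul, ← mat_mul]; exact congrArg mat h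
  have E := fun i j => congrFun (congrFun hcomm i) j
  simp only [Matrix.mul_apply, Fin.sum_univ_seven, repMat] at E
  have h2 : (2 : ZMod 3) ≠ 0 := by decide
  have z : ∀ {a : ZMod 3}, 2 * a = 0 → a = 0 := fun h => (mul_eq_zero.1 h).resolve_left h2
  have c40 : C 4 0 = 0 := by simpa [h2] using E 4 3
  have c50 : C 5 0 = 0 := by simpa [h2] using E 5 3
  have c60 : C 6 0 = 0 := by simpa [h2] using E 6 3
  have c41 : C 4 1 = 0 := by simpa [h2] using (E 1 1).symm
  have c42 : C 4 2 = 0 := by simpa [h2] using (E 1 2).symm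
  have c51 : C 5 1 = 0 := by simpa [h2] using (E 2 1).symm
  have c52 : C 5 2 = 0 := by simpa [h2] using (E 2 2).symm
  have c61 : C 6 1 = 0 := by simpa [h2] using (E 3 1).symm
  have c62 : C 6 2 = 0 := by simpa [h2] using (E 3 2).symm
  have c30 : C 3 0 = 0 := by simpa [h2, c60] using (E 0 0).symm
  have c31 : C 3 1 = 0 := by simpa [h2, c61] using (E 0 1).symm
  have c32 : C 3 2 = 0 := by simpa [h2, c62] using (E 0 2).symm
  have c63 : C 6 3 = 0 := by simpa [h2, c30] using (E 3 3).symm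
  have c43 : C 4 3 = 0 := by simpa [h2, c40] using E 4 6
  have c53 : C 5 3 = 0 := by simpa [h2, c50] using E 5 6
  have c10 : C 1 0 = 0 := by simpa [h2, c43] using E 1 3
  have c20 : C 2 0 = 0 := by simpa [h2, c53] using E 2 3
  have c64 : C 6 4 = 0 := by simpa [h2, c31] using (E 3 4).symm
  have c65 : C 6 5 = 0 := by simpa [h2, c32] using (E 3 5).symm
  have h3 : (3 : ZMod 3) = 0 := rfl
  have c33 : C 3 3 = C 0 0 := by
    have := E 0 3; simp [c63] at this; linear_combination this + (C 3 3 - C 0 0) * h3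
  have c66 : C 6 6 = C 0 0 := by
    have := E 3 6; simp [c30, c33] at this; linear_combination this + (C 6 6 - C 0 0) * h3
  have c44 : C 4 4 = C 1 1 := by
    have := E 1 4; simp [c64] at this; linear_combination -this
  have c54 : C 5 4 = 2 * C 2 1 := by
    have := E 2 4; simp at this; linear_combination this + (C 5 4 - C 2 1) * h3
  have c45 : C 4 5 = 2 * C 1 2 := by
    have := E 1 5; simp at this; linear_combination -this
  have c55 : C 5 5 = C 2 2 := by
    have := E 2 5; simp at this; linear_combination this + (C 5 5 - C 2 2) * h3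
  have hG := gram_mat c
  rw [← hC] at hG
  have G := fun i j => congrFun (congrFun hG i) j
  simp only [Matrix.mul_apply, Matrix.transpose_apply, Fin.sum_univ_seven, gram] at G
  have s00 : C 0 0 * C 0 0 = 1 := by
    have := G 3 3
    simpa [Fin.ext_iff, c63, c43, c53, c33] using this
  have sdet : C 1 1 * C 2 2 - C 1 2 * C 2 1 = 1 := by
    have := G 1 5
    simp [Fin.ext_iff, c31, c41, c51, c61, c65, c55, c45] at this
    linear_combination 2 * this + (1 - C 1 1 * C 2 2 - 3 * (C 1 2 * C 2 1)) * h3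
  obtain ⟨s, hs, M, hM, hMd⟩ : ∃ (s : ZMod 3), s = C 0 0 ∧ ∃ M : Matrix (Fin 7) (Fin 7) (ZMod 3),
      M = s • C ∧ ∀ i j, blk j ≤ blk i → M i j = levi (s * C 1 1) (s * C 1 2) (s * C 2 1) (s * C 2 2) i j := by
    refine ⟨C 0 0, rfl, _, rfl, fun i j hij => ?_⟩
    fin_cases i <;> fin_cases j <;> simp [blk] at hij <;>
      simp [levi, Matrix.smul_apply, smul_eq_mul, c40, c50, c60, c41, c42, c51, c52, c61, c62, c30, c31, c32,
        c63, c43, c53, c10, c20, c64, c65, c33, c66, c44, c54, c45, c55, s00, mul_left_comm] <;> ring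
  have hdet : s * C 1 1 * (s * C 2 2) - s * C 1 2 * (s * C 2 1) = 1 := by
    rw [hs]; linear_combination (C 0 0 * C 0 0) * sdet + s00
  obtain ⟨p, -, hW, hinv⟩ := levi_inv _ _ _ _ hdet
  obtain ⟨c', hc', hcm⟩ : ∃ c' : O, mat c' = M ∧ (c' = c ∨ c' = nI * c) := by
    rcases mul_self_eq_one_iff.1 (show s * s = 1 by rw [hs]; exact s00) with e | e
    · exact ⟨c, by rw [hM, e, one_smul, hC], Or.inl rfl⟩
    · exact ⟨nI * c, by rw [hM, e, mat_mul, mat_nI, neg_smul, one_smul, hC, neg_one_mul], Or.inr rfl⟩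
  have hD : ∀ i j, blk j ≤ blk i → mat (wd p.2 * c') i j = (1 : Matrix (Fin 7) (Fin 7) (ZMod 3)) i j := by
    intro i j hij
    rw [mat_mul, mat_wd, hc', ← hinv, Matrix.mul_apply, Matrix.mul_apply]
    refine Finset.sum_congr rfl fun l _ => ?_
    by_cases e : blk i = blk l
    · rw [hMd l j (e ▸ hij)]
    · rw [hW i l e, zero_mul, zero_mul]
  have hmono : ∀ i j : Fin 7, j < i → blk j ≤ blk i := by decide
  have hmem : wd p.2 * c' ∈ Om := mem_Om_of_unitriangular
    (fun i => by rw [hD i i le_rfl, Matrix.one_apply_eq])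
    (fun i j hji => by rw [hD i j (hmono i j hji), Matrix.one_apply_ne (ne_of_gt hji)])
  have := (Subgroup.mul_mem_cancel_left Om (wd_mem_Om p.2)).1 hmem
  rcases hcm with rfl | rfl
  · exact Or.inl this
  · exact Or.inr this

set_option maxHeartbeats 0 in
theorem t_not_mem : tEl ∉ Om := by
  intro h
  have key : ∀ (q : (Idx → ZMod 3) → ZMod 3), ⇑(qOdd 3 (ZMod 3)) = q → ∀ (g : ↥(Cfsg.isometryGroup (ZMod 3) q)),
      g ∈ Cfsg.Omega (ZMod 3) q →
      ((g : GL Idx (ZMod 3)) : Matrix Idx Idx (ZMod 3)) = (dec tData).submatrix pos pos → False := by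
    rintro q rfl g hg hgm
    let Q := qOdd 3 (ZMod 3)
    have hR : reflGroup Q = ⊤ := reflGroup_eq_top qOdd_nd (Or.inr (by simp))
    let u : Idx → ZMod 3 := Sum.elim 0 (Sum.elim ![0, 1, 0] ![0, 1, 0])
    let w : Idx → ZMod 3 := Sum.elim 0 (Sum.elim ![0, 1, 0] ![0, 2, 0])
    have qu : Q u = 1 := by rw [coe_qOdd]; decide +kernel
    have qw : Q w = 2 := by rw [coe_qOdd]; decide +kernel
    have hu : Q u ≠ 0 := by rw [qu]; decide
    have hw : Q w ≠ 0 := by rw [qw]; decide
    have he : oEquiv Q g = Quad.refl hu * Quad.refl hw := by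
      refine Subtype.ext (LinearEquiv.ext fun z => ?_)
      rw [oEquiv_apply, refl_mul_refl_apply, refl_apply, refl_apply, hgm, qu, qw]
      simp only [QuadraticMap.polar]
      rw [coe_qOdd]
      revert z
      decide +kernel
    have hmem : oEquiv Q g ∈ commutator (OQ Q) := by
      rw [commutator_def, ← Subgroup.map_top_of_surjective (oEquiv Q).toMonoidHom (oEquiv Q).surjective,
        ← Subgroup.map_commutator, ← commutator_def]
      exact Subgroup.mem_map_of_mem _ hg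
    have hk : invHom qOdd_nd hR (oEquiv Q g) = 1 :=
      MonoidHom.mem_ker.1 (Abelianization.commutator_subset_ker _ hmem)
    rw [he, map_mul, invHom_refl, invHom_refl, qu, qw, sqc_one] at hk
    have h2 := congrArg Prod.snd hk
    simp only [Prod.mk_mul_mk, Prod.snd_one, one_mul] at h2
    exact absurd ((sqc_eq_one_iff (by decide)).1 h2) (by decide +kernel)
  refine key qf (coe_qOdd 3 (ZMod 3)) tEl h ?_
  rfl

theorem two_three (g : O) (hg : g ∈ Om) : ¬ (g * rep 2 * g⁻¹ = rep 3 ∨ g * rep 2 * g⁻¹ = rep 3 * rep 3) := by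
  intro h
  have hinv : wd invWord * rep 3 * (wd invWord)⁻¹ = rep 3 * rep 3 := by
    have := wd_eq inv_ok.2
    simp only [wd_append, wd_winv] at this
    exact this
  obtain ⟨k, hk, hk3⟩ : ∃ k ∈ Om, k * rep 2 * k⁻¹ = rep 3 := by
    rcases h with h | h
    · exact ⟨g, hg, h⟩
    · refine ⟨(wd invWord)⁻¹ * g, mul_mem (inv_mem (wd_mem_Om _)) hg, ?_⟩
      rw [show (wd invWord)⁻¹ * g * rep 2 * ((wd invWord)⁻¹ * g)⁻¹ =
        (wd invWord)⁻¹ * (g * rep 2 * g⁻¹) * wd invWord by group, h, ← hinv]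
      group
  have ht : tEl * rep 2 = rep 3 * tEl := mat_inj (by
    rw [mat_mul, mat_mul, mat_t]
    have e2 := mat_rep 2
    have e3 := mat_rep 3
    simp only [Fin.isValue, Fin.val_two] at e2
    rw [show ((3 : Fin 7) : ℕ) = 3 from rfl] at e3
    rw [e2, e3]
    decide +kernel)
  have hc : tEl⁻¹ * k * rep 2 = rep 2 * (tEl⁻¹ * k) := by
    have e1 : k * rep 2 = rep 3 * k := by rw [← hk3]; group
    calc tEl⁻¹ * k * rep 2 = tEl⁻¹ * (rep 3 * k) := by rw [mul_assoc, e1]
      _ = tEl⁻¹ * (rep 3 * tEl) * (tEl⁻¹ * k) := by group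
      _ = rep 2 * (tEl⁻¹ * k) := by rw [← ht]; group
  have hdt : (mat tEl⁻¹).det = 1 := by
    have := congrArg Matrix.det (show mat tEl⁻¹ * mat tEl = 1 by rw [← mat_mul, inv_mul_cancel, mat_one])
    rwa [Matrix.det_mul, det_t, mul_one, Matrix.det_one] at this
  rcases centralizer_rep_two hc with h' | h'
  · exact t_not_mem (inv_mem_iff.1 ((Subgroup.mul_mem_cancel_right Om hk).1 h'))
  · have hd := det_mat_Om h'
    rw [mat_mul, mat_mul, Matrix.det_mul, Matrix.det_mul, hdt, det_mat_Om hk, mat_nI, Matrix.det_neg,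
      Matrix.det_one] at hd
    simp at hd
    exact absurd hd (by decide)

theorem rep_inj {i j : Fin 7} {g : O} (hg : g ∈ Om)
    (h : g * rep i * g⁻¹ = rep j ∨ g * rep i * g⁻¹ = rep j * rep j) : i = j := by
  rcases same_invariants h with e | ⟨rfl, rfl⟩ | ⟨rfl, rfl⟩
  · exact e
  · exact absurd h (two_three g hg)
  · refine absurd ?_ (two_three g⁻¹ (inv_mem hg))
    rw [show ((3 : Fin 7) : ℕ) = 3 from rfl, show ((2 : Fin 7) : ℕ) = 2 from rfl] at h
    rw [inv_inv]
    have c2 : rep 2 * (rep 2 * rep 2) = 1 := rep_cube 2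
    rcases h with h | h
    · left
      rw [← h]
      group
    · right
      have e2 : rep 2 = g * (rep 3 * rep 3) * g⁻¹ := by
        rw [show g * (rep 3 * rep 3) * g⁻¹ = (g * rep 3 * g⁻¹) * (g * rep 3 * g⁻¹) by group, h]
        calc _ = rep 2 * (rep 2 * (rep 2 * rep 2)) := by rw [c2, mul_one]
          _ = _ := by simp only [mul_assoc]
      rw [e2]
      group

end CfsgLib.ThreeTrans.O73
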